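import Mathlib
import Cfsg.Prelude.Def_LocalStructure
import Cfsg.Agent.Lib.Transfer.Sylow

/-!
# Weakly closed `p`-subgroups
-/

namespace CfsgLib.WeaklyClosed

set_option autoImplicit false
set_option linter.style.haveILetI false

open CfsgLib.Transfer

variable {H : Type*} [Group H] [Finite H] {p : ℕ} [Fact p.Prime] {Q : Subgroup H}

/-- A conjugate of `Q` and `Q` inside a common `p`-subgroup coincide. -/
theorem conj_eq (hwc : Cfsg.IsWeaklyClosedSubgroup p Q) {R : Subgroup H} (hR : IsPGroup p R)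
    (hQR : Q ≤ R) {g : H} (hg : Q.map (MulAut.conj g).toMonoidHom ≤ R) :
    Q.map (MulAut.conj g).toMonoidHom = Q := by
  obtain ⟨T, -, hT⟩ := hwc
  obtain ⟨h, hh⟩ := exists_map_conj_le_sylow hR T
  have h1 := hT h ((Subgroup.map_mono hQR).trans hh)
  have h2 := hT (h * g) (by rw [← map_conj_mul]; exact (Subgroup.map_mono hg).trans hh)
  rw [← map_conj_mul] at h2
  exact Subgroup.map_injective (MulAut.conj h).injective (h2.trans h1.symm)

/-- A `p`-subgroup containing `Q` normalizes it. -/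
theorem le_normalizer (hwc : Cfsg.IsWeaklyClosedSubgroup p Q) {R : Subgroup H} (hR : IsPGroup p R)
    (hQR : Q ≤ R) : R ≤ Subgroup.normalizer (Q : Set H) := fun r hr =>
  map_conj_eq_self_iff.mp (conj_eq hwc hR hQR (by
    rintro _ ⟨q, hq, rfl⟩
    exact R.mul_mem (R.mul_mem hr (hQR hq)) (R.inv_mem hr)))

/-- A Sylow subgroup of an overgroup `K` which contains `Q`. -/
theorem exists_sylow_overgroup (hQp : IsPGroup p Q) (K : Subgroup H) (hQK : Q ≤ K) :
    ∃ P : Sylow p K, Q ≤ (P : Subgroup K).map K.subtype := by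
  obtain ⟨P, hP⟩ :=
    (hQp.comap_of_injective K.subtype K.subtype_injective : IsPGroup p (Q.subgroupOf K)).exists_le_sylow
  exact ⟨P, fun q hq => ⟨⟨q, hQK hq⟩, hP hq, rfl⟩⟩

/-- Conjugates of `Q` in an overgroup `K` are `K`-conjugate. -/
theorem exists_conj_eq (hwc : Cfsg.IsWeaklyClosedSubgroup p Q) (hQp : IsPGroup p Q) {K : Subgroup H}
    (hQK : Q ≤ K) {g : H} (hg : Q.map (MulAut.conj g).toMonoidHom ≤ K) :
    ∃ k ∈ K, Q.map (MulAut.conj g).toMonoidHom = Q.map (MulAut.conj k).toMonoidHom := by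
  obtain ⟨P, hP⟩ := exists_sylow_overgroup hQp K hQK
  obtain ⟨k, hk⟩ := exists_map_conj_le_sylow
    ((hQp.map (MulAut.conj g).toMonoidHom).comap_of_injective K.subtype K.subtype_injective :
      IsPGroup p ((Q.map (MulAut.conj g).toMonoidHom).subgroupOf K)) P
  have h1 := conj_eq hwc (P.2.map K.subtype) hP (g := (k : H) * g) (by
    rw [← map_conj_mul]
    rintro _ ⟨x, hx, rfl⟩
    exact ⟨k * ⟨x, hg hx⟩ * k⁻¹, hk ⟨⟨x, hg hx⟩, hx, rfl⟩, rfl⟩)
  refine ⟨(k : H)⁻¹, K.inv_mem k.2, ?_⟩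
  conv_rhs => rw [← h1, map_conj_mul, inv_mul_cancel_left]

end CfsgLib.WeaklyClosed
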